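/-
The outer automorphism group of a finite group with a large extraspecial subgroup `Q = O₂(C(z))` which is generated by
`C(z)` and the neighbouring conjugates of `Q` is a 2-group, when `C(z) / Q` has only inner automorphisms and only the
trivial automorphism on `Q / Z(Q)`. Applications: the Monster type and the Baby Monster type.
-/
import Cfsg.Agent.K.BM0
import Cfsg.Agent.Spor.MonB
import Cfsg.Agent.S2069
import Cfsg.Agent.S2070

set_option autoImplicit false

namespace CL.BM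

open Cfsg Cfsg.Spor Subgroup CL.Even CL.Grp CL.Spor CL.Spor.Leech CL.Spor.Mon MulAction Matrix
open CL.Mx (b2 dec2 mul2 one2)
open scoped commutatorElement Pointwise

variable {G : Type*} [Group G]

/-- `G` is generated by `C(z)` and the conjugates of `Q` whose centre lies in `Q`. -/
def Gen (z : G) (Q : Subgroup G) : Prop :=
  ∀ H : Subgroup G, centralizer ({z} : Set G) ≤ H → (∀ g : G, g * z * g⁻¹ ∈ Q → cj g Q ≤ H) → H = ⊤

theorem Gen.of_iSup {z : G} {Q : Subgroup G} (h : ⊤ ≤ ⨆ (g : G) (_ : g * z * g⁻¹ ∈ Q), cj g Q) : Gen z Q :=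
  fun _ _ h2 => top_le_iff.1 (h.trans (iSup₂_le h2))

theorem Gen.of_sup {z : G} {Q : Subgroup G}
    (h : ⊤ ≤ centralizer ({z} : Set G) ⊔ ⨆ (g : G) (_ : g * z * g⁻¹ ∈ Q), cj g Q) : Gen z Q :=
  fun _ h1 h2 => top_le_iff.1 (h.trans (sup_le h1 (iSup₂_le h2)))

theorem inv_mul_mem_cent (δ : MulAut G) {N : Subgroup G} (hN : ∀ n ∈ N, δ n = n) {y : G} (hy : y ∈ 𝒩(N)) :
    y⁻¹ * δ y ∈ 𝒞(N) := fun n hn => by
  have h1 := hN _ (conj_mem hy hn)
  rw [map_mul, map_mul, map_inv, hN n hn] at h1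
  calc n * (y⁻¹ * δ y) = y⁻¹ * (y * n * y⁻¹) * δ y := by group
    _ = y⁻¹ * (δ y * n * (δ y)⁻¹) * δ y := by rw [h1]
    _ = y⁻¹ * δ y * n := by group

theorem sq_apply (δ : MulAut G) {y : G} (h1 : δ (y⁻¹ * δ y) = y⁻¹ * δ y) (h2 : y⁻¹ * δ y * (y⁻¹ * δ y) = 1) :
    (δ ^ 2) y = y := by
  rw [map_mul, map_inv, inv_mul_eq_iff_eq_mul] at h1
  rw [pow_two, MulAut.mul_apply, h1]
  calc δ y * (y⁻¹ * δ y) = y * (y⁻¹ * δ y * (y⁻¹ * δ y)) := by group
    _ = y := by rw [h2, mul_one]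

theorem sq_apply_of_fix (δ : MulAut G) {y : G} (h : δ y = y) : (δ ^ 2) y = y := by
  rw [pow_two, MulAut.mul_apply, h, h]

section abstract

variable [Finite G] {z : G} {Q : Subgroup G} (h : XE z Q)
include h

/-- An automorphism which is trivial on `Q / Z(Q)` has order dividing 8. -/
theorem pow_eight (hg : Gen z Q) (γ : MulAut G) (hz : γ z = z) (hγ : ∀ q ∈ Q, γ q * q⁻¹ ∈ zpowers z) :
    γ ^ 8 = 1 := by
  have hZ : ∀ (δ : MulAut G) (y : G), δ z = z → y⁻¹ * δ y ∈ zpowers z → (δ ^ 2) y = y := fun δ y h1 h2 => by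
    rcases h.mem_Z.1 h2 with e | e <;> refine sq_apply δ ?_ ?_ <;> simp [e, h1, h.mul_self]
  have h1 : ∀ q ∈ Q, (γ ^ 2) q = q := fun q hq => hZ γ q hz (by
    simpa using inv_mem (hγ _ (inv_mem hq)))
  have h2 : ∀ c ∈ centralizer ({z} : Set G), ((γ ^ 2) ^ 2) c = c := fun c hc =>
    hZ _ c (h1 z h.mem) (h.cent_eq ▸ inv_mul_mem_cent _ h1 (h.norm hc))
  have h3 := hg (MonoidHom.eqLocus (((γ ^ 2) ^ 2) ^ 2).toMonoidHom (MonoidHom.id G))
    (fun c hc => sq_apply_of_fix _ (h2 c hc)) fun g hgz y hy => by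
      have h' := h.conj g
      have hz' := h.mem_cj_of_conj_mem hgz
      have h4 := h'.cent_inf_cent_le hz' ((pow_two z).trans h.mul_self)
        (inv_mul_mem_cent _ (fun n hn => h2 n (mem_inf.1 hn).2) (h'.le_norm_of_mem inf_le_left ⟨h'.mem, h.le hgz⟩ hy))
      have e1 := h2 _ (h.le hgz)
      have e2 := h2 _ (h.le h.mem)
      have e3 : g * z * g⁻¹ * z * (g * z * g⁻¹ * z) = 1 := by
        have e4 := h.comm hgz
        have e5 := h'.mul_self
        generalize g * z * g⁻¹ = t at e4 e5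
        rw [mul_assoc, ← mul_assoc z, ← e4, mul_assoc t z, h.mul_self, mul_one, e5]
      refine sq_apply _ ?_ ?_ <;>
        rcases (mem_closure_pair_two h'.mul_self h.mul_self (h.comm hgz)).1 h4 with e | e | e | e <;> rw [e]
      exacts [map_one _, e1, e2, by rw [map_mul, e1, e2], mul_one _, h'.mul_self, h.mul_self, e3]
  refine MulEquiv.ext fun x => ?_
  have h5 : x ∈ MonoidHom.eqLocus (((γ ^ 2) ^ 2) ^ 2).toMonoidHom (MonoidHom.id G) := h3 ▸ mem_top x
  rw [← pow_mul, ← pow_mul] at h5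
  exact h5

/-- Frattini argument. -/
theorem exists_fix (α : MulAut G) : ∃ g : G, (MulAut.conj g * α) z = z := by
  have : Fact (Nat.Prime 2) := ⟨Nat.prime_two⟩
  obtain ⟨T, hT⟩ := h.isPGroup.exists_le_sylow
  obtain ⟨g, hg⟩ := exists_smul_eq G (α • T) T
  refine ⟨g, ?_⟩
  set β := MulAut.conj g * α
  have h1 : β • (T : Subgroup G) = T := by
    rw [mul_smul]; exact congrArg Sylow.toSubgroup hg
  have h2 : ∀ x, β x ∈ (T : Subgroup G) ↔ x ∈ (T : Subgroup G) := fun x => by
    conv_lhs => rw [← h1]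
    exact Subgroup.smul_mem_pointwise_smul_iff
  have h3 := h.inf_cent_eq_of_le T.isPGroup' hT
  have h4 : z ∈ (T : Subgroup G) ⊓ 𝒞((T : Subgroup G)) := h3 ▸ mem_zpowers z
  have h5 : β z ∈ zpowers z := h3 ▸ ⟨(h2 z).2 h4.1, fun t ht => by
    obtain ⟨s, rfl⟩ := β.surjective t
    rw [← map_mul, ← map_mul, h4.2 s ((h2 s).1 ht)]⟩
  exact (h.mem_Z.1 h5).resolve_left fun e => h.ne_one (β.injective (e.trans (map_one β).symm))

/-- The abstract theorem. -/
theorem out_two {K : Type*} [Group K] (π : centralizer ({z} : Set G) →* K) (hπ : Function.Surjective π)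
    (hk : ∀ c, π c = 1 ↔ (c : G) ∈ Q) (hL : ∀ N : Subgroup K, N.Normal → IsPGroup 2 N → N = ⊥)
    (hK : Nat.card (Out K) = 1)
    (hE : ∀ γ : MulAut G, γ z = z → (∀ q ∈ Q, γ q ∈ Q) → (∀ c ∈ centralizer ({z} : Set G), γ c * c⁻¹ ∈ Q) →
      ∀ q ∈ Q, γ q * q⁻¹ ∈ zpowers z) (hg : Gen z Q) : IsPGroup 2 (Out G) := by
  intro a
  obtain ⟨α, rfl⟩ := QuotientGroup.mk_surjective a
  obtain ⟨g, hβ⟩ := exists_fix h α
  set β := MulAut.conj g * α with hβd
  have hO : pCoreOf 2 (centralizer ({z} : Set G)) = Q := by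
    refine le_antisymm ?_ h.le_core
    rintro _ ⟨c, hc, rfl⟩
    exact (hk c).1 ((hL _ (Normal.map inferInstance _ hπ) (pCore_isP.map π)).le ⟨c, hc, rfl⟩)
  have hC : (centralizer ({z} : Set G)).map β.toMonoidHom = centralizer ({z} : Set G) := by
    ext c
    obtain ⟨c, rfl⟩ := β.surjective c
    refine (mem_map_iff_mem (f := β.toMonoidHom) β.injective).trans ?_
    rw [mem_cent_singleton, mem_cent_singleton, ← β.injective.eq_iff, map_mul, map_mul, hβ]
  have hQ : Q.map β.toMonoidHom = Q := by rw [← hO, map_core_of_injective β.injective, hC]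
  have hQ' : ∀ x, β x ∈ Q ↔ x ∈ Q := fun x => by
    conv_lhs => rw [← hQ]
    exact mem_map_iff_mem (f := β.toMonoidHom) β.injective
  let βC : centralizer ({z} : Set G) ≃* centralizer ({z} : Set G) :=
    (β.subgroupMap _).trans (MulEquiv.subgroupCongr hC)
  have hβC : ∀ c, (βC c : G) = β c := fun _ => rfl
  let e := QuotientGroup.quotientKerEquivOfSurjective π hπ
  let φ : MulAut K := e.symm.trans ((QuotientGroup.congr π.ker π.ker βC (by
    ext c
    obtain ⟨c, rfl⟩ := βC.surjective c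
    refine (mem_map_iff_mem (f := βC.toMonoidHom) βC.injective).trans ?_
    rw [MonoidHom.mem_ker, MonoidHom.mem_ker, hk, hk, hβC, hQ'])).trans e)
  have hφ : ∀ c, φ (π c) = π (βC c) := fun c => by
    rw [show π c = e (QuotientGroup.mk c) from rfl]
    simp only [φ, MulEquiv.trans_apply, MulEquiv.symm_apply_apply]
    rfl
  obtain ⟨k, hk'⟩ : φ ∈ Inn K :=
    (QuotientGroup.eq_one_iff φ).1 ((Nat.card_eq_one_iff_unique.1 hK).1.elim _ _)
  obtain ⟨c0, rfl⟩ := hπ k
  have h8 := pow_eight h hg (MulAut.conj (c0 : G)⁻¹ * β) (by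
      rw [MulAut.mul_apply, hβ, MulAut.conj_apply, inv_inv, mul_assoc, ← mem_cent_singleton.1 c0.2,
        inv_mul_cancel_left])
    (hE _ (by
      rw [MulAut.mul_apply, hβ, MulAut.conj_apply, inv_inv, mul_assoc, ← mem_cent_singleton.1 c0.2,
        inv_mul_cancel_left]) (fun q hq => conj_mem (h.norm (inv_mem c0.2)) ((hQ' q).2 hq)) fun c hc => by
      have h1 := (hk (c0⁻¹ * βC ⟨c, hc⟩ * c0⁻¹⁻¹ * ⟨c, hc⟩⁻¹)).1 (by
        simp only [map_mul, map_inv, ← hφ, ← hk', MulAut.conj_apply]; group)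
      exact h1)
  refine ⟨3, ?_⟩
  have h9 : ∀ x : G, (QuotientGroup.mk (MulAut.conj x) : Out G) = 1 := fun x =>
    (QuotientGroup.eq_one_iff _).2 ⟨x, rfl⟩
  have h10 := congrArg (QuotientGroup.mk : MulAut G → Out G) h8
  rwa [QuotientGroup.mk_pow, hβd, QuotientGroup.mk_mul, QuotientGroup.mk_mul, h9, h9, one_mul, one_mul] at h10

omit [Finite G] in
/-- The hypothesis on the module `Q / Z(Q)` from one vector. -/
theorem triv_of_vec {x : G} (hx : x ∈ Q) (hxz : x ∉ zpowers z)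
    (hfix : ∀ y ∈ Q, y ∉ zpowers z → (∀ c ∈ centralizer ({z} : Set G), c * x * c⁻¹ * x⁻¹ ∈ zpowers z →
      c * y * c⁻¹ * y⁻¹ ∈ zpowers z) → y * x⁻¹ ∈ zpowers z)
    (hspan : ∀ N : Subgroup G, z ∈ N → x ∈ N → (∀ c ∈ centralizer ({z} : Set G), ∀ y ∈ N, c * y * c⁻¹ ∈ N) → Q ≤ N)
    (γ : MulAut G) (hz : γ z = z) (hQ : ∀ q ∈ Q, γ q ∈ Q)
    (hC : ∀ c ∈ centralizer ({z} : Set G), γ c * c⁻¹ ∈ Q) : ∀ q ∈ Q, γ q * q⁻¹ ∈ zpowers z := by
  have hγ : ∀ a, γ a ∈ zpowers z ↔ a ∈ zpowers z := fun a => by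
    rw [h.mem_Z, h.mem_Z, γ.map_eq_one_iff]
    conv_lhs => rw [← hz, γ.injective.eq_iff]
  have hc : ∀ c ∈ centralizer ({z} : Set G), ∀ a ∈ zpowers z, c * a * c⁻¹ ∈ zpowers z := fun c hc a ha => by
    rcases h.mem_Z.1 ha with rfl | rfl
    · simp
    · rw [mem_cent_singleton.1 hc, mul_inv_cancel_right]; exact ha
  have key : ∀ c ∈ centralizer ({z} : Set G), ∀ y ∈ Q, γ (c * y * c⁻¹) * (c * γ y * c⁻¹)⁻¹ ∈ zpowers z :=
    fun c hc y hy => by
      have := h.comm_mem (hC c hc) (conj_mem (h.norm hc) (hQ y hy))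
      convert this using 1
      simp only [map_mul, map_inv, commutatorElement_def]; group
  have h1 := hfix _ (hQ x hx) (mt (hγ x).1 hxz) fun c hc h2 => by
    have := mul_mem (inv_mem (key c hc x hx)) ((hγ _).2 h2)
    convert this using 1
    simp only [map_mul, map_inv]; group
  let N : Subgroup G :=
    { carrier := {q | q ∈ Q ∧ γ q * q⁻¹ ∈ zpowers z}
      one_mem' := ⟨one_mem _, by simp⟩
      mul_mem' := fun {a b} ha hb => ⟨mul_mem ha.1 hb.1, by
        have := mul_mem (hc _ (h.le (hQ a ha.1)) _ hb.2) ha.2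
        convert this using 1
        simp only [map_mul]; group⟩
      inv_mem' := fun {a} ha => ⟨inv_mem ha.1, by
        have := hc _ (inv_mem (h.le (hQ a ha.1))) _ (inv_mem ha.2)
        convert this using 1
        simp only [map_inv]; group⟩ }
  exact fun q hq => (hspan N ⟨h.mem, by simp [hz]⟩ ⟨hx, h1⟩ (fun c hc' y hy => ⟨conj_mem (h.norm hc') hy.1, by
    have := mul_mem (key c hc' y hy.1) (hc c hc' _ hy.2)
    convert this using 1
    group⟩) hq).2

end abstract

/-! ### The Monster type -/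

theorem dbl_of_Nsub_le {w : leechLattice} (h : Nsub ≤ clsStab w) (h0 : ¬ Dbl w) : Dbl (w - e8 none) := by
  obtain ⟨v, hv, h1⟩ := exists_short' w
  have h2 : Nsub ≤ clsStab v := fun g hg =>
    (((hv.smul g).of_eq (smul_sub ..)).symm.trans (h hg)).trans hv
  have h3 : sqNorm (v : GolayPt → ℤ) < 64 → sqNorm (v : GolayPt → ℤ) = 24 * (v : GolayPt → ℤ) none ^ 2 := fun hl => by
    have : ∀ i, (v : GolayPt → ℤ) i ^ 2 = (v : GolayPt → ℤ) none ^ 2 := fun i => by
      obtain ⟨σ, rfl⟩ := M24_trans1 none i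
      rw [← pm_apply_smul σ v none]
      rcases (mem_clsStab_of_lt hl).1 (h2 (pm_mem σ)) with e | e <;> simp [e]
    simp only [sqNorm, this, Finset.sum_const, Finset.card_univ, Leech.card_golayPt, nsmul_eq_mul, Nat.cast_ofNat]
  rcases h1 with rfl | h1 | h1 | h1
  · exact absurd (hv.of_eq (sub_zero _)) h0
  · have := h3 (by omega); omega
  · have h4 := h3 (by omega)
    have h5 : (v : GolayPt → ℤ) none ^ 2 = 2 := by omega
    rcases le_or_gt |(v : GolayPt → ℤ) none| 1 with h6 | h6 <;> nlinarith [sq_abs ((v : GolayPt → ℤ) none), abs_nonneg ((v : GolayPt → ℤ) none)]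
  · obtain ⟨k, rfl⟩ := trans64 (sqNorm_e8 none) h1
    refine hv.trans (show k ∈ clsStab (e8 none) from ?_)
    have : Finite Co0 := Nat.finite_of_card_ne_zero (by rw [card_Co0]; norm_num)
    rw [clsStab_smul, clsStab_e8] at h2
    have h4 : k ∈ 𝒩(Nsub) := cj_eq_iff_mem.1 (eq_of_le_of_card_ge h2 (card_map_conj _ _).le).symm
    rw [clsStab_e8]
    by_contra h5
    have : Nsub.Normal := normalizer_eq_top_iff.1 (Nsub_isCoatom.2 _ (lt_of_le_of_ne le_normalizer fun e => h5 (e ▸ h4)))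
    rcases normal_eq_center_or_top Nsub (center_le_Eps.trans Eps_le) with e | e
    · have := card_Nsub'; rw [e, card_center] at this; omega
    · exact Nsub_isCoatom.1 e

theorem outM_of [Finite G] {z : G} {Q : Subgroup G} {π : centralizer ({z} : Set G) →* Co1}
    {R : leechLattice → G → Prop} (h : MT z Q π R) (hg : Gen z Q) : IsPGroup 2 (Out G) := by
  obtain ⟨x, hx⟩ := h.exR (e8 none)
  have h8 := not_dbl_of_short (v := e8 none) (sqNorm_e8 _).le (by rw [sqNorm_e8]; norm_num)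
  have := Co1_simple
  have : Finite Co1 := Nat.finite_of_card_ne_zero (by rw [card_Co1]; norm_num)
  refine out_two h.xe π h.surj h.ker (eq_bot_of_simple (by rw [card_Co1]; norm_num)) Cfsg.Agent.S2069.result
    (triv_of_vec h.xe (h.mem hx) (by rwa [← h.zero hx]) (fun y hy hyz hc => ?_) fun N hz hxN hN q hq => ?_) hg
  · obtain ⟨w, hw⟩ := h.exL y hy
    refine (h.dbl_iff hw hx).1 (dbl_of_Nsub_le (fun g hg => ?_) (by rwa [h.zero hw]))
    obtain ⟨c, e⟩ := h.lift g
    exact (h.dbl_iff (h.conj c g e hw) hw).2 (hc c c.2 ((h.dbl_iff (h.conj c g e hx) hx).1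
      (show g ∈ clsStab (e8 none) from (clsStab_e8 none).ge hg)))
  · let M : AddSubgroup (GolayPt → ℤ) :=
      { carrier := {v | ∃ hv : v ∈ leechLattice, ∃ y ∈ N, R ⟨v, hv⟩ y}
        zero_mem' := ⟨zero_mem _, 1, one_mem _, h.ofZero Dbl.zero (one_mem _)⟩
        add_mem' := fun ⟨ha, y, hy, h1⟩ ⟨hb, y', hy', h2⟩ => ⟨add_mem ha hb, _, mul_mem hy hy', h.mul h1 h2⟩
        neg_mem' := fun ⟨ha, y, hy, h1⟩ => ⟨neg_mem ha, _, inv_mem hy, h.inv h1⟩ }
    rcases mod_two_irreducible M (fun v hv => ⟨zsmul_mem hv 2, 1, one_mem _,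
        h.ofZero ⟨⟨v, hv⟩, Subtype.ext (two_zsmul v)⟩ (one_mem _)⟩) (fun _ hv => hv.1)
      (fun g v ⟨_, y, hy, h1⟩ => by
        obtain ⟨c, e⟩ := h.lift g
        exact ⟨(g • v).2, _, hN c c.2 y hy, h.conj c g e h1⟩) with h1 | h1
    · obtain ⟨w, hw, e⟩ := h1 _ ⟨(e8 none).2, x, hxN, hx⟩
      exact absurd ⟨⟨w, hw⟩, Subtype.ext (e.trans (two_zsmul w))⟩ h8
    · obtain ⟨v, hv⟩ := h.exL q hq
      obtain ⟨_, y, hy, h2⟩ : (v : GolayPt → ℤ) ∈ M := h1.ge v.2
      exact (mul_mem_cancel_right (inv_mem hy)).1 (zpowers_le.2 hz ((h.dbl_iff hv h2).1 (Dbl.refl v)))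

theorem outM_of' [Finite G] {z : G} {Q : Subgroup (centralizer ({z} : Set G))} [Q.Normal] (h : IsOfMonsterType z Q)
    (hg : Gen z (Q.map (centralizer ({z} : Set G)).subtype)) : IsPGroup 2 (Out G) :=
  let ⟨hS, _, _, hψ⟩ := h; outM_of (mt_of hS hψ) hg

/-! ### The Baby Monster type -/

theorem dec2_xor (n A B : ℕ) : dec2 n (A ^^^ B) = dec2 n A + dec2 n B := by
  ext i j
  simp [dec2, Nat.testBit_xor, CL.Mx.b2_xor]

theorem co_U : co leechU = Pi.single 1 1 :=
  (co_of_isCo (x := fun i => if i = 23 ∨ i = 0 then 4 else 0) (f := fun k => Nat.beq k 1) (by decide +kernel)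
    (by decide +kernel)).trans (by decide +kernel)

theorem co_U' : co leechU' = Pi.single 0 1 :=
  (co_of_isCo (x := fun i => if i = 23 then 4 else if i = 0 then -4 else 0) (f := fun k => Nat.beq k 0)
    (by decide +kernel) (by decide +kernel)).trans (by decide +kernel)

theorem add_self_V2 (v : V2) : v + v = 0 := funext fun _ => CharTwo.add_self_eq_zero _

theorem kill {y : leechLattice} (h : ∀ g : Co0, g • leechU = leechU → g • leechU' = leechU' →
      Dbl (g • y - y) ∨ Dbl (g • y - y - leechU)) {c p A L : ℕ} (hc : isCode c = true) (hp : inM24 p = true)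
    (h1 : (!c.testBit 23 && !c.testBit 0 && Nat.beq (pf p 23) 23 && Nat.beq (pf p 0) 0) = true)
    (hA : colsB (fun j => monoN c p (rowZ basT j)) A = true) (hL : dec2 24 L *ᵥ Pi.single 1 1 = 0) :
    dec2 24 (mul2 24 L (A ^^^ one2 24)) *ᵥ co y = 0 := by
  simp only [Bool.and_eq_true, Bool.not_eq_true', Nat.beq_eq] at h1
  obtain ⟨⟨⟨a1, a2⟩, a3⟩, a4⟩ := h1
  have e1 := eps_fix (ofMask_mem_GC_of_isCode hc) (by simp [a1]) (by simp [a2])
  have e2 := pm_fix (σ := m24 p) (((rep_m24 hp).smul_gPt (k := 23) (by norm_num)).trans (congrArg gPt a3))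
    (((rep_m24 hp).smul_gPt (k := 0) (by norm_num)).trans (congrArg gPt a4))
  have h2 := h (monoE c p hc) (by rw [monoE, mul_smul, inv_smul_eq_iff.2 e2.1.symm, e1.1])
    (by rw [monoE, mul_smul, inv_smul_eq_iff.2 e2.2.symm, e1.2])
  have h3 : dec2 24 A *ᵥ co y = co (monoE c p hc • y) := (rep_mono hc hp hA _).symm.trans (mk1_smul_co _ _)
  rw [CL.Mx.dec2_mul2, dec2_xor, CL.Mx.dec2_one2, ← mulVec_mulVec, add_mulVec, one_mulVec, h3]
  rcases h2 with e | e
  · rw [co_eq_iff.2 e, add_self_V2, mulVec_zero]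
  · rw [sub_sub, ← co_eq_iff, map_add] at e
    rw [e, add_right_comm, add_self_V2, zero_add, co_U, hL]

/-- The classes fixed by the stabiliser of `u` and `u'` modulo `u`. -/
theorem perp_fix {y : leechLattice} (h : ∀ g : Co0, g • leechU = leechU → g • leechU' = leechU' →
      Dbl (g • y - y) ∨ Dbl (g • y - y - leechU)) :
    (Dbl y ∨ Dbl (y - leechU)) ∨ Dbl (y - leechU') ∨ Dbl (y - leechU' - leechU) := by
  have h1 := kill h (c := 4294810) (p := 975327207685675366433323702613551520)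
    (A := 0x800000963000f450009da000237000c6e000b9a0005390003d2000fda0002e4000bdb000f9d3040c1244680468f1632c9ae26466d2e808710837013428a9649bf348c0033ee7d015)
    (L := 0x900010a3310e89d11e99d10c61cd09d0000bc0001a21cd1f2b2d10f331102b2d1bd1cd0fd13c1dc3d916f6cd1f35381698b811213d1364cc16f2d41b39c8047029000000000000)
    (by decide +kernel) (by decide +kernel) (by decide +kernel) (by decide +kernel) (by decide +kernel)
  have h2 := kill h (c := 6970936) (p := 962213125178265783178924938019313760)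
    (A := 0x8000006e7000157000e63000ee1000fdd00070e0004e30006e3000ea3000eeb000ee20009f70481a1a401afb2027a824f7382024206039ce40ccea603072a06bc85088ae2af46c09)
    (L := 0x5000004000004000004000000000000000004000005000005000005000004000000000004000004000001000000000004000001000005000000000004000000000000)
    (by decide +kernel) (by decide +kernel) (by decide +kernel) (by decide +kernel) (by decide +kernel)
  have h3 : co y = dec2 24 0x2000001 *ᵥ co y := by
    have := congrArg₂ (· + ·) h1 h2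
    simp only [← add_mulVec, ← dec2_xor, add_zero] at this
    rw [show _ ^^^ _ = one2 24 ^^^ 0x2000001 by decide +kernel, dec2_xor, CL.Mx.dec2_one2, add_mulVec,
      one_mulVec] at this
    exact add_left_cancel ((add_self_V2 _).trans this.symm)
  have h4 : co y = co y 0 • co leechU' + co y 1 • co leechU := by
    rw [co_U, co_U']
    conv_lhs => rw [h3, show dec2 24 0x2000001 = Matrix.single 0 0 1 + Matrix.single 1 1 1 by decide +kernel]
    rw [add_mulVec, single_mulVec, single_mulVec]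
    funext k
    simp [Function.update_apply, Pi.single_apply]
  rw [sub_sub, ← co_eq_iff, ← co_eq_iff, ← co_eq_iff, ← co_eq_zero, map_add, h4]
  generalize co y 0 = a
  generalize co y 1 = b
  have : ∀ a : ZMod 2, a = 0 ∨ a = 1 := by decide
  rcases this a with rfl | rfl <;> rcases this b with rfl | rfl <;> simp

/-- 23 minimal vectors orthogonal to `u` and one more vector: a basis modulo 2. -/
def spT : ℕ := 0x8c6318c6318c6318c6318c5b18c6318c62f8c5ef7bdf18c6318c5b18be2f94a528421084a10942108421083a0e84a5084a1284a5084a108421084a1084a529425284a108425084210842108425294a129425084212842108421094a12942129421084210742108420e84a5284212942108421084a1084a509425084a1294210842108425083a0e84a1094a5294210842108421284a10942509421284a5084210842107420e9421094a50942508421084210841ce842108421084214842108421084290842108421084210a4210842108429084210842108421085210842108429084210842108421084290842108429084210842108421084214842108429084210842108421084210a4210842908421084210842108421085210842908421084210842108421084290842908421084210842108421084214842908421084210842108421084210a4290842108421084210842108421083290842108421084210842108421085290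

theorem spT_inL (j : Fin 24) : inL (rowZ spT j) = true :=
  (allBelow_iff (fun j => inL (rowZ spT j)) 24).1 (by decide +kernel) j j.2

theorem co_sum {W : Fin 24 → leechLattice} {M : Matrix (Fin 24) (Fin 24) (ZMod 2)}
    (h : ∀ j, co (W j) = fun k => M k j) (t : V2) : co (∑ j, (t j).val • W j) = M *ᵥ t := by
  rw [map_sum]
  funext k
  rw [Finset.sum_apply, mulVec, dotProduct]
  exact Finset.sum_congr rfl fun j _ => by
    rw [map_nsmul, h, Pi.smul_apply, nsmul_eq_mul, ZMod.natCast_zmod_val, mul_comm]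

/-- The vectors of the table. -/
def spW (j : Fin 24) : leechLattice := lv _ (spT_inL j)

theorem exists_coord (y : leechLattice) : ∃ t : V2, co y = co (∑ j, (t j).val • spW j) := by
  have h0 : colsB (rowZ spT) 0xc0000030000028000024000022000021000020800020400020200051c00021100042b000027e0051510062b08033a840424420c05410328c0853a80422ac030017ffc107fde0bbfd = true := by
    decide +kernel
  have h1 : one2 24 = mul2 24 0xc0000030000028000024000022000021000020800020400020200051c00021100042b000027e0051510062b08033a840424420c05410328c0853a80422ac030017ffc107fde0bbfd 0xc7400047400049f00009f00069f00059f00041f0004df0004bf00048f0004970000420008aaffc880fff46f8034f940049e200c42efcc64f7f44dfbf48a023ca9fecc9d006c1f00d := by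
    decide +kernel
  generalize 0xc0000030000028000024000022000021000020800020400020200051c00021100042b000027e0051510062b08033a840424420c05410328c0853a80422ac030017ffc107fde0bbfd = M at h0 h1
  generalize 0xc7400047400049f00009f00069f00059f00041f0004df0004bf00048f0004970000420008aaffc880fff46f8034f940049e200c42efcc64f7f44dfbf48a023ca9fecc9d006c1f00d = N at h1
  refine ⟨dec2 24 N *ᵥ co y, ?_⟩
  rw [co_sum (M := dec2 24 M) fun j => by
    rw [co_of_isCo (v := spW j) (x := rowZ spT j) rfl ((allBelow_iff _ _).1 h0 j j.2)]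
    simp only [PG.tb_eq]; rfl, mulVec_mulVec, ← CL.Mx.dec2_mul2, ← h1, CL.Mx.dec2_one2, one_mulVec]

/-- The minimal vectors orthogonal to `u` span the perpendicular space of `u` modulo 2. -/
theorem perp_span {S : AddSubgroup leechLattice} (hD : ∀ v, Dbl v → v ∈ S) (hS : S ≤ leechPerpU)
    (h : ∀ w : leechLattice, sqNorm (w : GolayPt → ℤ) = 32 → dotInt (leechU : GolayPt → ℤ) w = 0 → w ∈ S) :
    leechPerpU ≤ S := fun y hy => by
  obtain ⟨t, h2⟩ := exists_coord y
  have h3 : ∀ j : Fin 24, j ≠ 23 →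
      sqNorm (vecOf (rowZ spT j)) = 32 ∧ dotInt (leechU : GolayPt → ℤ) (vecOf (rowZ spT j)) = 0 := by decide +kernel
  have h4 : y - (t 23).val • spW 23 ∈ S := by
    have h5 := add_mem (hD _ (co_eq_iff.1 h2)) (sum_mem (t := Finset.univ.erase 23) fun j hj =>
      nsmul_mem (h (spW j) (h3 j (Finset.ne_of_mem_erase hj)).1 (h3 j (Finset.ne_of_mem_erase hj)).2) (t j).val)
    rwa [← Finset.add_sum_erase _ _ (Finset.mem_univ 23), ← sub_sub, sub_add_cancel] at h5
  have : ∀ a : ZMod 2, a = 0 ∨ a = 1 := by decide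
  rcases this (t 23) with e | e <;> rw [e] at h4
  · simpa using h4
  · have h5 := sub_mem hy (hS h4)
    rw [sub_sub_cancel, ZMod.val_one, one_smul] at h5
    exact absurd (show (16 : ℤ) ∣ dotInt (vecOf (rowZ spT 23)) vecU from h5) (by decide +kernel)

theorem outB_of [Finite G] {z : G} {Q : Subgroup (centralizer ({z} : Set G))} [Q.Normal]
    (hS : IsExtraspecialCentralizerSetting z Q 11) {e : centralizer ({z} : Set G) ⧸ Q ≃* Co2}
    {ψ : leechPerpU → Q ⧸ center Q} (hψ : IsLeechPerpModTwoIso Q e ψ)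
    (hg : Gen z (Q.map (centralizer ({z} : Set G)).subtype)) : IsPGroup 2 (Out G) := by
  obtain ⟨hz, hF, hE, -⟩ := hS
  obtain ⟨h1, h2, h3, h4⟩ := hψ
  have hx : XE z (Q.map (centralizer ({z} : Set G)).subtype) :=
    xe_of_fstar hz (by rw [← hF]) (extra_of_mulEquiv hE (Q.equivMapOfInjective _ Subtype.val_injective))
  have hZ : ∀ q : Q, q ∈ center Q ↔ q.1.1 ∈ zpowers z := fun q => by
    rw [← hx.cent_eq, Subgroup.mem_center_iff]
    constructor
    · rintro h _ ⟨y, hy, rfl⟩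
      exact congrArg (fun a : Q => a.1.1) (h ⟨y, hy⟩)
    · exact fun h y => Subtype.ext (Subtype.ext (h _ ⟨y, y.2, rfl⟩))
  have hq : ∀ a b : Q, (QuotientGroup.mk a : Q ⧸ center Q) = QuotientGroup.mk b ↔ a.1.1 * b.1.1⁻¹ ∈ zpowers z :=
    fun a b => by rw [← mul_inv_eq_one, ← QuotientGroup.mk_inv, ← QuotientGroup.mk_mul, QuotientGroup.eq_one_iff, hZ]; rfl
  have h5 : ∀ a b : leechPerpU, ψ a = ψ b ↔ Dbl (a.1 - b.1) ∨ Dbl (a.1 - b.1 - leechU) := fun a b => by
    conv_lhs => rw [← sub_add_cancel a b, h1, mul_eq_right, h3]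
    exact or_congr Iff.rfl (exists_congr fun w => sub_eq_iff_eq_add'.symm)
  have hp : ∀ g : Co0, g • leechU = leechU → ∀ a : leechPerpU, g • a.1 ∈ leechPerpU := fun g hg a =>
    show (16 : ℤ) ∣ dotInt _ (leechU : GolayPt → ℤ) by rw [← hg, dot_smul]; exact a.2
  have h6 : ∀ (g : Co0) (hg : g • leechU = leechU), ∃ c : centralizer ({z} : Set G), ∀ (a : leechPerpU) (q : Q),
      ψ a = QuotientGroup.mk q → ∃ q' : Q, q'.1.1 = c * q.1.1 * (c : G)⁻¹ ∧ ψ ⟨_, hp g hg a⟩ = QuotientGroup.mk q' :=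
    fun g hg => by
      obtain ⟨c, hc⟩ := QuotientGroup.mk_surjective (e.symm (co2Equiv ⟨g, hg⟩))
      exact ⟨c, fun a q ha => ⟨_, rfl, h4 c (co2Equiv ⟨g, hg⟩) (by rw [hc, e.apply_symm_apply]) a _ rfl q ha⟩⟩
  let u' : leechPerpU := ⟨leechU', show (16 : ℤ) ∣ dotInt vecU' vecU by decide +kernel⟩
  obtain ⟨x, hx'⟩ := QuotientGroup.mk_surjective (ψ u')
  have := isCo2_Co2.1
  have : Finite Co2 := Nat.finite_of_card_ne_zero (by rw [isCo2_Co2.2]; norm_num)
  refine out_two hx (e.toMonoidHom.comp (QuotientGroup.mk' Q)) (e.surjective.comp (QuotientGroup.mk'_surjective Q))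
    (fun c => ?_) (eq_bot_of_simple (by rw [isCo2_Co2.2]; norm_num)) Cfsg.Agent.S2070.result
    (triv_of_vec hx (x := x.1.1) ⟨x, x.2, rfl⟩ (fun h7 => ?_) ?_ fun N hzN hxN hN => ?_) hg
  · rw [MonoidHom.comp_apply, MulEquiv.coe_toMonoidHom, e.map_eq_one_iff, QuotientGroup.mk'_apply,
      QuotientGroup.eq_one_iff]
    exact ⟨fun h => ⟨c, h, rfl⟩, fun ⟨y, hy, h⟩ => Subtype.ext h ▸ hy⟩
  · rw [← hZ, ← QuotientGroup.eq_one_iff, hx', h3] at h7
    rcases h7 with h7 | ⟨w, h7⟩
    · exact not_dbl_of_short (v := leechU') (by rw [sqNorm_U']; norm_num) (by rw [sqNorm_U']; norm_num) h7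
    · have h8 := co_eq_iff.2 (show Dbl (leechU' - leechU) from ⟨w, sub_eq_iff_eq_add'.2 h7⟩)
      rw [co_U, co_U'] at h8
      exact absurd h8 (by decide +kernel)
  · rintro _ ⟨y, hy, rfl⟩ hyz hc
    obtain ⟨w, hw⟩ := h2 (QuotientGroup.mk ⟨y, hy⟩)
    rcases perp_fix (y := w.1) (fun g g1 g2 => by
      obtain ⟨c, h7⟩ := h6 g g1
      obtain ⟨x', e1, e2⟩ := h7 u' x hx'.symm
      obtain ⟨y', e3, e4⟩ := h7 w _ hw
      rw [show (⟨_, hp g g1 u'⟩ : leechPerpU) = u' from Subtype.ext g2, ← hx', eq_comm, hq, e1] at e2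
      exact (h5 ⟨_, hp g g1 w⟩ w).1 (by rw [e4, hw, hq, e3]; exact hc c c.2 e2)) with h7 | h7
    · refine absurd ((hZ ⟨y, hy⟩).1 ((QuotientGroup.eq_one_iff _).1 (hw.symm.trans ((h3 w).2 ?_)))) hyz
      exact h7.imp id fun ⟨a, h⟩ => ⟨a, sub_eq_iff_eq_add'.1 h⟩
    · exact (hq ⟨y, hy⟩ x).1 (by rw [← hw, hx']; exact (h5 w u').2 h7)
  · have h0 : ψ 0 = 1 := (h3 0).2 (Or.inl ⟨0, (add_zero 0).symm⟩)
    let S : AddSubgroup leechLattice :=
      { carrier := {v | ∃ hv : v ∈ leechPerpU, ∃ q : Q, q.1.1 ∈ N ∧ ψ ⟨v, hv⟩ = QuotientGroup.mk q}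
        zero_mem' := ⟨zero_mem _, 1, one_mem _, h0⟩
        add_mem' := fun ⟨ha, y, hy, e1⟩ ⟨hb, y', hy', e2⟩ =>
          ⟨add_mem ha hb, y * y', mul_mem hy hy', (h1 ⟨_, ha⟩ ⟨_, hb⟩).trans (by rw [e1, e2]; rfl)⟩
        neg_mem' := fun {a} ⟨ha, y, hy, e1⟩ => ⟨neg_mem ha, y⁻¹, inv_mem hy, by
          rw [QuotientGroup.mk_inv, ← e1, eq_inv_iff_mul_eq_one, ← h1, ← h0]
          exact congrArg ψ (Subtype.ext (neg_add_cancel a))⟩ }
    have h7 := perp_span (S := S) (fun v hv => ⟨hv.dvd_dot leechU, 1, one_mem _, (h3 _).2 (Or.inl hv)⟩)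
      (fun _ hv => hv.1) fun w w1 w2 => by
        obtain ⟨g, g1, g2⟩ := pair_orth sqNorm_U w1 w2
        have g3 : g⁻¹ • leechU = leechU := inv_smul_eq_iff.2 g1.symm
        obtain ⟨c, h7⟩ := h6 g⁻¹ g3
        obtain ⟨x', e1, e2⟩ := h7 u' x hx'.symm
        rw [show w = g⁻¹ • leechU' from eq_inv_smul_iff.2 g2]
        exact ⟨_, x', e1 ▸ hN c c.2 _ hxN, e2⟩
    rintro _ ⟨y, hy, rfl⟩
    obtain ⟨w, hw⟩ := h2 (QuotientGroup.mk ⟨y, hy⟩)
    obtain ⟨_, q, q1, q2⟩ := h7 w.2
    exact (mul_mem_cancel_right (inv_mem q1)).1 (zpowers_le.2 hzN ((hq ⟨y, hy⟩ q).1 (hw.symm.trans q2)))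

end CL.BM
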